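import Groth.Agent.L21.NormalAffine
import Mathlib.AlgebraicGeometry.Morphisms.Finite
import Mathlib.AlgebraicGeometry.Morphisms.QuasiFinite
import Mathlib.AlgebraicGeometry.Morphisms.SchemeTheoreticallyDominant
import Mathlib.RingTheory.IntegralClosure.GoingDown
import Mathlib.RingTheory.Ideal.GoingDown

/-!
# Going down for finite dominant morphisms to normal schemes
-/

set_option autoImplicit false
set_option linter.style.haveILetI false

universe u

open CategoryTheory AlgebraicGeometry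

namespace Groth.L05.GoingDown

theorem exists_generization {W Z : Scheme.{u}} [IsIntegral W] [IsIntegral Z] (ψ : W ⟶ Z) [IsFinite ψ]
    [Surjective ψ] (hZ : ∀ x : Z, IsDomain (Z.presheaf.stalk x) ∧ IsIntegrallyClosed (Z.presheaf.stalk x))
    (w : W) {δ : Z} (h : δ ⤳ ψ w) : ∃ w' : W, w' ⤳ w ∧ ψ w' = δ := by
  obtain ⟨U, hU, hwU, -⟩ := exists_isAffineOpen_mem_and_subset (x := ψ w) (U := ⊤) trivial
  haveI : Nonempty U := ⟨⟨_, hwU⟩⟩
  let V : W.Opens := ψ ⁻¹ᵁ U
  have hV : IsAffineOpen V := hU.preimage ψ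
  haveI : Nonempty V := ⟨⟨w, hwU⟩⟩
  let A := Γ(Z, U)
  let B := Γ(W, V)
  haveI : IsIntegrallyClosed A := Groth.L21.isIntegrallyClosed_of_normal hZ hU
  let φ : A ⟶ B := ψ.appLE U V le_rfl
  have hφ : φ = ψ.app U := ψ.appLE_eq_app
  haveI : IsDominant ψ := inferInstance
  haveI : IsSchemeTheoreticallyDominant ψ := .of_isDominant ψ
  have hinj : Function.Injective φ := by rw [hφ]; exact ψ.app_injective U
  have hint : φ.hom.IsIntegral := by rw [hφ]; exact IsIntegralHom.isIntegral_app ψ U hU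
  algebraize [φ.hom]
  haveI : Algebra.IsIntegral A B := ⟨hint⟩
  haveI : FaithfulSMul A B := (faithfulSMul_iff_algebraMap_injective A B).mpr hinj
  haveI : Algebra.HasGoingDown A B := inferInstance
  let q := hV.primeIdealOf ⟨w, hwU⟩
  have hδU : δ ∈ U := h.mem_open U.2 hwU
  let t := hU.primeIdealOf ⟨δ, hδU⟩
  have hq : hU.fromSpec (Spec.map φ q) = ψ w := by
    rw [← Scheme.Hom.comp_apply, IsAffineOpen.SpecMap_appLE_fromSpec ψ hU hV le_rfl,
      Scheme.Hom.comp_apply, hV.fromSpec_primeIdealOf]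
  have ht : hU.fromSpec t = δ := hU.fromSpec_primeIdealOf _
  have hspec : t ⤳ Spec.map φ q :=
    hU.fromSpec.isOpenEmbedding.isInducing.specializes_iff.mp (by rw [hq, ht]; exact h)
  obtain ⟨q', hq', hq't⟩ := (Algebra.HasGoingDown.iff_generalizingMap_primeSpectrumComap (R := A) (S := B)).mp
    inferInstance hspec
  refine ⟨hV.fromSpec q', ?_, ?_⟩
  · have hw := hV.fromSpec_primeIdealOf ⟨w, hwU⟩
    exact (hq'.map hV.fromSpec.continuous).trans (specializes_of_eq hw)
  · rw [← Scheme.Hom.comp_apply, ← IsAffineOpen.SpecMap_appLE_fromSpec ψ hU hV le_rfl,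
      Scheme.Hom.comp_apply]
    rw [show Spec.map φ q' = t from hq't, ht]

end Groth.L05.GoingDown
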